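import Groth.Agent.Synt29.SmoothProps
import Groth.Agent.LC.LiaisonLocal
import Groth.Agent.S9142
import Groth.Agent.S9363
import Groth.Prelude.Def_RegImm
import Mathlib

/-! Properties of local rings along flat maps with Cohen–Macaulay fibres, e.g. syntomic maps. -/

set_option autoImplicit false
set_option backward.isDefEq.respectTransparency false
set_option backward.isDefEq.respectTransparency.types false

universe u

open TensorProduct IsLocalRing CategoryTheory AlgebraicGeometry

namespace Groth.Agent.SyntCM12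

section Ring

variable {A B : Type u} [CommRing A] [CommRing B] [Algebra A B]

theorem isCM_fibLocRing (hfib : ∀ p : PrimeSpectrum A, LocCoh.IsCohenMacaulayRing (p.asIdeal.Fiber B))
    [IsNoetherianRing B] (q : Ideal B) [q.IsPrime] :
    LocCoh.IsCohenMacaulayLocalRing (EGA4.FibLocRing A B q) := by
  set p := q.comap (algebraMap A B) with hp
  obtain ⟨Q, hQ⟩ := FlatLoc6.exists_fiber_prime p q rfl
  have key : ∀ (q' : Ideal B) [q'.IsPrime],
      Q.asIdeal.comap Algebra.TensorProduct.includeRight = q' →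
        LocCoh.IsCohenMacaulayLocalRing (EGA4.FibLocRing A B q') := by
    intro q' _ h
    subst h
    obtain ⟨e⟩ := FlatLoc6.exists_fibLocEquiv p Q.asIdeal
    haveI := FlatLoc6.isLocalRing_fibLocRing (A := A) (Q.asIdeal.comap
      (Algebra.TensorProduct.includeRight : B →ₐ[A] p.Fiber B))
    haveI := (hfib ⟨p, inferInstance⟩).isCohenMacaulayLocalRing_localization Q.asIdeal
    exact LC.Liaison.isCMLocal_of_ringEquiv (A := Localization.AtPrime Q.asIdeal) e
  exact key q hQ

theorem fibDim_eq_fibDepth (hfib : ∀ p : PrimeSpectrum A, LocCoh.IsCohenMacaulayRing (p.asIdeal.Fiber B))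
    [IsNoetherianRing B] (q : Ideal B) [q.IsPrime] :
    FlatLoc6.fibDim A q B = ((FlatLoc6.fibDepth A q B : ℕ∞) : WithBot ℕ∞) := by
  have := isCM_fibLocRing hfib q
  rw [FlatLoc6.fibDim_self, FlatLoc6.fibDepth_self]
  exact (Module.supportDim_self_eq_ringKrullDim (R := EGA4.FibLocRing A B q)).symm.trans
    this.supportDim_eq_depth

variable [IsNoetherianRing A] [IsNoetherianRing B] [Module.Flat A B]

theorem isCM_iff (hfib : ∀ p : PrimeSpectrum A, LocCoh.IsCohenMacaulayRing (p.asIdeal.Fiber B))
    (q : Ideal B) [q.IsPrime] :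
    LocCoh.IsCohenMacaulayLocalRing (Localization.AtPrime q) ↔
      LocCoh.IsCohenMacaulayLocalRing (Localization.AtPrime (q.comap (algebraMap A B))) := by
  set p := q.comap (algebraMap A B) with hp
  haveI : IsNoetherianRing (Localization.AtPrime q) :=
    IsLocalization.isNoetherianRing q.primeCompl _ inferInstance
  haveI : IsNoetherianRing (Localization.AtPrime p) :=
    IsLocalization.isNoetherianRing p.primeCompl _ inferInstance
  obtain ⟨h1, h2⟩ := FlatLoc6.formulas_self p q rfl
  rw [fibDim_eq_fibDepth hfib q, ← WithBot.coe_add, WithBot.coe_inj] at h2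
  have hP : ∀ {R : Type u} [CommRing R] [IsNoetherianRing R] (r : Ideal R) [r.IsPrime]
      [IsNoetherianRing (Localization.AtPrime r)],
      LocCoh.IsCohenMacaulayLocalRing (Localization.AtPrime r) ↔
        r.height = LocCoh.depth (Localization.AtPrime r) (Localization.AtPrime r) := by
    intro R _ _ r _ _
    have e : Module.supportDim (Localization.AtPrime r) (Localization.AtPrime r) =
        (r.height : WithBot ℕ∞) := by
      rw [Module.supportDim_self_eq_ringKrullDim,
        IsLocalization.AtPrime.ringKrullDim_eq_height r]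
    refine ⟨fun h => WithBot.coe_inj.mp (e.symm.trans h.supportDim_eq_depth), fun h => ?_⟩
    exact { supportDim_eq_depth := e.trans (congrArg _ h) }
  rw [hP q, hP p, h1, h2]
  constructor
  · intro h
    refine WithTop.add_right_cancel ?_ h
    intro htop
    exact Ideal.height_ne_top (I := q) (Ideal.IsPrime.ne_top inferInstance) (by rw [h2, htop]; exact add_top _)
  · intro h
    rw [h]

theorem hasSk_iff (hfib : ∀ p : PrimeSpectrum A, LocCoh.IsCohenMacaulayRing (p.asIdeal.Fiber B))
    (n : ℕ) (q : Ideal B) [q.IsPrime] :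
    LocCoh.HasSk n (Localization.AtPrime q) (Localization.AtPrime q) ↔
      LocCoh.HasSk n (Localization.AtPrime (q.comap (algebraMap A B)))
        (Localization.AtPrime (q.comap (algebraMap A B))) := by
  set p := q.comap (algebraMap A B) with hp
  show LocCoh.HasSk n (Localization q.primeCompl) (Localization q.primeCompl) ↔
    LocCoh.HasSk n (Localization p.primeCompl) (Localization p.primeCompl)
  rw [Synt29.SmoothProps.hasSk_self_localization_iff q.primeCompl n,
    Synt29.SmoothProps.hasSk_self_localization_iff p.primeCompl n]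
  constructor
  · intro h p' _ hd
    have hle := (Alg6.disjoint_primeCompl_iff _ _).mp hd
    obtain ⟨P, _, hPq, hPp, h0, h0'⟩ := FlatLoc6.exists_fib_zero_le (A := A) q p' hle
    obtain ⟨h1, h2⟩ := FlatLoc6.formulas_self p' P hPp
    have h3 := h P ((Alg6.disjoint_primeCompl_iff _ _).mpr hPq)
    rw [h0, add_zero, WithBot.coe_inj] at h2
    rwa [h2, h1, h0', add_zero] at h3
  · intro h q' _ hd
    have hle := (Alg6.disjoint_primeCompl_iff _ _).mp hd
    obtain ⟨h1, h2⟩ := FlatLoc6.formulas_self (q'.comap (algebraMap A B)) q' rfl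
    have h3 := h (q'.comap (algebraMap A B))
      ((Alg6.disjoint_primeCompl_iff _ _).mpr (Ideal.comap_mono hle))
    rw [fibDim_eq_fibDepth hfib q', ← WithBot.coe_add, WithBot.coe_inj] at h2
    rw [h2, h1]
    refine le_trans ?_ (add_le_add h3 le_rfl)
    rw [← min_add_add_right]
    exact le_min ((min_le_left _ _).trans le_self_add) (min_le_right _ _)

end Ring

section Scheme

variable {X Y : Scheme.{u}}

/-- A syntomic morphism is flat and locally of finite presentation. -/
theorem flat_and_lfp {f : X ⟶ Y} (hf : Synt.IsSyntomicMor f) :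
    Flat f ∧ LocallyOfFinitePresentation f := by
  constructor
  · rw [HasRingHomProperty.iff_appLE (P := @Flat)]
    intro V U e
    exact ((Groth.Agent.S9363.result f).mp hf U V e).1
  · rw [HasRingHomProperty.iff_appLE (P := @LocallyOfFinitePresentation)]
    intro V U e
    exact ((Groth.Agent.S9363.result f).mp hf U V e).2.1

/-- Local rings along a syntomic morphism, by a chart. -/
theorem chart {f : X ⟶ Y} (hf : Synt.IsSyntomicMor f) [IsLocallyNoetherian Y] (x : X) :
    ∃ (A B : Type u) (_ : CommRing A) (_ : CommRing B) (_ : IsNoetherianRing A)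
      (_ : IsNoetherianRing B) (_ : Algebra A B) (_ : Module.Flat A B)
      (_ : ∀ p : PrimeSpectrum A, LocCoh.IsCohenMacaulayRing (p.asIdeal.Fiber B)) (q : Ideal B)
      (_ : q.IsPrime),
      Nonempty (Localization.AtPrime q ≃+* X.presheaf.stalk x) ∧
        Nonempty (Localization.AtPrime (q.comap (algebraMap A B)) ≃+* Y.presheaf.stalk (f x)) := by
  obtain ⟨U, V, e, hx, hUV⟩ := hf x
  let _ : Algebra Γ(Y, V.1) Γ(X, U.1) := (f.appLE V.1 U.1 e).hom.toAlgebra
  obtain ⟨hfl, hfp, hlci⟩ := hUV
  have hA : IsNoetherianRing Γ(Y, V.1) := IsLocallyNoetherian.component_noetherian V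
  have hB : IsNoetherianRing Γ(X, U.1) := Algebra.FiniteType.isNoetherianRing Γ(Y, V.1) _
  let q := (U.2.primeIdealOf ⟨x, hx⟩).asIdeal
  have hp : q.comap (algebraMap Γ(Y, V.1) Γ(X, U.1)) = (V.2.primeIdealOf ⟨f x, e hx⟩).asIdeal :=
    congr($(IsAffineOpen.comap_primeIdealOf_appLE V.1 V.2 U.1 U.2 e hx).1)
  let _ := Y.presheaf.algebra_section_stalk ⟨f x, e hx⟩
  let _ := X.presheaf.algebra_section_stalk ⟨x, hx⟩
  have := U.2.isLocalization_stalk ⟨x, hx⟩
  refine ⟨Γ(Y, V.1), Γ(X, U.1), inferInstance, inferInstance, hA, hB, inferInstance, hfl,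
    fun p => Groth.Agent.S9142.result _ _ (hlci p), q, inferInstance, ⟨?_⟩, ⟨?_⟩⟩
  · exact (IsLocalization.algEquiv q.primeCompl (Localization.AtPrime q)
      (X.presheaf.stalk x)).toRingEquiv
  · have : IsLocalization.AtPrime (Y.presheaf.stalk (f x)) (q.comap (algebraMap Γ(Y, V.1) Γ(X, U.1))) := by
      rw [IsLocalization.AtPrime]
      convert V.2.isLocalization_stalk ⟨f x, e hx⟩ using 2
    exact (IsLocalization.algEquiv (q.comap (algebraMap Γ(Y, V.1) Γ(X, U.1))).primeCompl
      (Localization.AtPrime (q.comap (algebraMap Γ(Y, V.1) Γ(X, U.1))))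
      (Y.presheaf.stalk (f x))).toRingEquiv

theorem isCM_stalk_iff {f : X ⟶ Y} (hf : Synt.IsSyntomicMor f) [IsLocallyNoetherian Y] (x : X) :
    LocCoh.IsCohenMacaulayLocalRing (X.presheaf.stalk x) ↔
      LocCoh.IsCohenMacaulayLocalRing (Y.presheaf.stalk (f x)) := by
  obtain ⟨A, B, _, _, _, _, _, _, hfib, q, _, ⟨eB⟩, ⟨eA⟩⟩ := chart hf x
  haveI hNB : IsNoetherianRing (Localization.AtPrime q) :=
    IsLocalization.isNoetherianRing q.primeCompl _ inferInstance
  haveI hNA : IsNoetherianRing (Localization.AtPrime (q.comap (algebraMap A B))) :=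
    IsLocalization.isNoetherianRing (q.comap (algebraMap A B)).primeCompl _ inferInstance
  haveI := isNoetherianRing_of_ringEquiv _ eB
  haveI := isNoetherianRing_of_ringEquiv _ eA
  refine ⟨fun h => ?_, fun h => ?_⟩
  · haveI := (isCM_iff hfib q).mp (LC.Liaison.isCMLocal_of_ringEquiv eB.symm)
    exact LC.Liaison.isCMLocal_of_ringEquiv eA
  · haveI := (isCM_iff hfib q).mpr (LC.Liaison.isCMLocal_of_ringEquiv eA.symm)
    exact LC.Liaison.isCMLocal_of_ringEquiv eB

theorem hasSk_stalk_iff {f : X ⟶ Y} (hf : Synt.IsSyntomicMor f) [IsLocallyNoetherian Y] (x : X)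
    (n : ℕ) :
    LocCoh.HasSk n (X.presheaf.stalk x) (X.presheaf.stalk x) ↔
      LocCoh.HasSk n (Y.presheaf.stalk (f x)) (Y.presheaf.stalk (f x)) := by
  obtain ⟨A, B, _, _, _, _, _, _, hfib, q, _, ⟨eB⟩, ⟨eA⟩⟩ := chart hf x
  haveI hNB : IsNoetherianRing (Localization.AtPrime q) :=
    IsLocalization.isNoetherianRing q.primeCompl _ inferInstance
  haveI hNA : IsNoetherianRing (Localization.AtPrime (q.comap (algebraMap A B))) :=
    IsLocalization.isNoetherianRing (q.comap (algebraMap A B)).primeCompl _ inferInstance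
  haveI := isNoetherianRing_of_ringEquiv _ eB
  haveI := isNoetherianRing_of_ringEquiv _ eA
  exact ⟨fun h => FlatLoc6.hasSk_of_ringEquiv eA n
      ((hasSk_iff hfib n q).mp (FlatLoc6.hasSk_of_ringEquiv eB.symm n h)),
    fun h => FlatLoc6.hasSk_of_ringEquiv eB n
      ((hasSk_iff hfib n q).mpr (FlatLoc6.hasSk_of_ringEquiv eA.symm n h))⟩

end Scheme

end Groth.Agent.SyntCM12
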