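import Groth.Agent.SyntCM12.CMProps
import Groth.Agent.S0116

/-! The source of a syntomic cover is locally Noetherian iff the target is. -/

set_option autoImplicit false

universe u

open CategoryTheory Limits AlgebraicGeometry

namespace Groth.Agent.SyntCM12

theorem isLocallyNoetherian_iff {ι : Type u} {S : Scheme.{u}} {X : ι → Scheme.{u}}
    (f : ∀ i, X i ⟶ S) (hsurj : ∀ s : S, ∃ i, s ∈ Set.range (f i).base)
    (hsyn : ∀ i, Synt.IsSyntomicMor (f i)) :
    IsLocallyNoetherian S ↔ ∀ i, IsLocallyNoetherian (X i) := by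
  haveI h1 : ∀ i, Flat (f i) := fun i => (flat_and_lfp (hsyn i)).1
  haveI h2 : ∀ i, LocallyOfFinitePresentation (f i) := fun i => (flat_and_lfp (hsyn i)).2
  refine ⟨fun _ i => LocallyOfFiniteType.isLocallyNoetherian (f i), fun h => ?_⟩
  haveI := h
  haveI : Flat (Sigma.desc f) := IsZariskiLocalAtSource.sigmaDesc h1
  haveI : LocallyOfFinitePresentation (Sigma.desc f) := IsZariskiLocalAtSource.sigmaDesc h2
  haveI : IsLocallyNoetherian (∐ X) := by
    rw [isLocallyNoetherian_iff_openCover (sigmaOpenCover X)]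
    exact fun i => h i
  haveI : Surjective (Sigma.desc f) := ⟨fun s => by
    obtain ⟨i, x, rfl⟩ := hsurj s
    exact ⟨Sigma.ι X i x, by rw [← Scheme.Hom.comp_apply, Sigma.ι_desc]⟩⟩
  exact Groth.Agent.S0116.result (Sigma.desc f)

end Groth.Agent.SyntCM12
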